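import Cfsg.Agent.Std.PcTab
import Cfsg.Agent.PS4.Model
import Cfsg.Agent.S0288
import Cfsg.Agent.Class.FieldTransport

/-! The Sylow `2`-subgroups of `A₈`, `S₈` as table groups. -/

set_option autoImplicit false
set_option maxRecDepth 100000

namespace Cfsg.Agent.Syl8

open Subgroup Equiv Cfsg.Agent.Comp Cfsg.Agent.LES Cfsg.Agent.X32 Cfsg.Agent.KSG.Pc
  Cfsg.Agent.Std.PcT

def R6 : List (List ℕ × List ℕ) := [([0, 0], []), ([1, 1], []), ([0, 1], [1, 0]), ([2, 2], []),
  ([0, 2], [2, 0]), ([1, 2], [2, 1]), ([3, 3], []), ([0, 3], [3, 0]), ([1, 3], [3, 1]),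
  ([2, 3], [3, 2, 0]), ([4, 4], []), ([0, 4], [4, 0]), ([1, 4], [4, 1]), ([2, 4], [4, 2, 1]),
  ([3, 4], [4, 3]), ([5, 5], []), ([0, 5], [5, 0]), ([1, 5], [5, 1, 0]), ([2, 5], [5, 2]),
  ([3, 5], [5, 3]), ([4, 5], [5, 4, 3])]

def R7 : List (List ℕ × List ℕ) := [([6, 6], []), ([0, 6], [6, 0]),
  ([1, 6], [6, 1]), ([2, 6], [6, 2]), ([3, 6], [6, 3, 1]), ([4, 6], [6, 4, 1]), ([5, 6], [6, 5, 2])]

def C3 : ℕ := 0x60007000400050003000200010000
def C4 : ℕ := 0xd000c000f000e000b000a0009000800050004000700060003000200010000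
def C5 : ℕ := 0x160017001500140012001300110010001e001f001d001c001a001b00190018000e000f000d000c000a000b0009000800060007000500040002000300010000
def C6 : ℕ := 0x380039003a003b003c003d003e003f0033003200310030003700360035003400280029002a002b002c002d002e002f00230022002100200027002600250024001f001e001d001c001b001a0019001800150014001700160011001000130012000d000c000f000e00090008000b000a00070006000500040003000200010000

noncomputable def m1 := stp 1 0 0 fun _ _ => 0
noncomputable def m2 := stp 2 0 0x10000 m1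
noncomputable def m3 := stp 4 0 0x3000200010000 m2
noncomputable def m4 := stp 8 0 C3 m3
noncomputable def m5 := stp 16 0 C4 m4
noncomputable def m6 := stp 32 0 C5 m5
noncomputable def m7 := stp 64 0 C6 m6
noncomputable def i1 := sti 1 0 0 (fun _ _ => 0) fun _ => 0
noncomputable def i2 := sti 2 0 0x10000 m1 i1
noncomputable def i3 := sti 4 0 0x3000200010000 m2 i2
noncomputable def i4 := sti 8 0 C3 m3 i3
noncomputable def i5 := sti 16 0 C4 m4 i4
noncomputable def i6 := sti 32 0 C5 m5 i5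
noncomputable def i7 := sti 64 0 C6 m6 i6

variable {G : Type*} [Group G] {x : ℕ → G}

theorem esound {R : List (List ℕ × List ℕ)} (h : ∀ r ∈ R, BN.ev x r.1 = BN.ev x r.2) :
    ESound x fun U V => decide ((U, V) ∈ R) := fun _ _ e => h _ (of_decide_eq_true e)

theorem sound6 (h : ∀ r ∈ R6, BN.ev x r.1 = BN.ev x r.2) : Sound x 6 m6 i6 :=
  have e := esound h
  (((((sound_zero.step e (by decide) rfl (by decide +kernel) (by decide +kernel)).step e
    (by decide) rfl (by decide +kernel) (by decide +kernel)).step e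
    (by decide) rfl (by decide +kernel) (by decide +kernel)).step e
    (by decide) rfl (by decide +kernel) (by decide +kernel)).step e
    (by decide) rfl (by decide +kernel) (by decide +kernel)).step e
    (by decide) rfl (by decide +kernel) (by decide +kernel)

theorem sound7 (h : ∀ r ∈ R6, BN.ev x r.1 = BN.ev x r.2) (h' : ∀ r ∈ R7, BN.ev x r.1 = BN.ev x r.2) :
    Sound x 7 m7 i7 :=
  (sound6 h).step (esound h') (by decide) rfl (by decide +kernel) (by decide +kernel)

def xs : ℕ → Perm (Fin 8) := tup [swap 0 1 * swap 2 3 * swap 4 5 * swap 6 7, swap 0 1 * swap 2 3,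
  swap 0 1 * swap 4 5, swap 0 2 * swap 1 3 * swap 4 6 * swap 5 7, swap 0 2 * swap 1 3,
  swap 0 4 * swap 1 5 * swap 2 6 * swap 3 7, swap 0 1]

theorem xs6 : ∀ r ∈ R6, BN.ev xs r.1 = BN.ev xs r.2 := by decide +kernel
theorem xs7 : ∀ r ∈ R7, BN.ev xs r.1 = BN.ev xs r.2 := by decide +kernel

theorem xs_inj : ∀ u < 2 ^ 7, ∀ v < 2 ^ 7, el xs u = el xs v → u = v := by
  intro u hu v hv e
  have H := sound7 xs6 xs7
  have a : ∀ u < 2 ^ 7, el xs u = 1 → u = 0 := by decide +kernel
  have b : allB 128 (fun u => force (i7 u) fun w => allB 128 fun v =>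
      or' (not' (Nat.beq (m7 w v) 0)) (Nat.beq u v)) = true := by decide +kernel
  simp only [allB_iff, force_eq, or'_eq_true, not'_eq_true] at b
  have c := H.mul _ (H.inv u hu).1 v hv
  have d := a _ c.1 (by rw [← c.2, ← e, (H.inv u hu).2])
  rcases b u hu v hv with f | f
  · rw [d] at f; exact absurd f (by decide)
  · exact (beq_iff _ _).1 f

noncomputable def T6 : Tab := ⟨64, m6, i6⟩
noncomputable def T7 : Tab := ⟨128, m7, i7⟩

instance ok6 : Fact T6.OK :=
  ⟨(sound6 xs6).ok rfl fun u hu v hv => xs_inj u (by omega) v (by omega)⟩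
instance ok7 : Fact T7.OK := ⟨(sound7 xs6 xs7).ok rfl xs_inj⟩

theorem inj_of_rank {T : Tab} [Fact T.OK] (f : TG T →* G) {z : TG T} (hz : f z ≠ 1)
    (gs : List (TG T)) (h : ∀ k : TG T, k = 1 ∨ k = z ∨
      ∃ g ∈ gs, k * g * k⁻¹ * g⁻¹ ≠ 1 ∧ (k * g * k⁻¹ * g⁻¹).v < k.v) : Function.Injective f := by
  refine (injective_iff_map_eq_one f).2 fun k => ?_
  induction hn : k.v using Nat.strong_induction_on generalizing k with
  | _ n ih =>
    intro e
    rcases h k with a | rfl | ⟨g, -, a, b⟩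
    · exact a
    · exact absurd e hz
    · exact absurd (ih _ (hn ▸ b) _ rfl (by simp [e])) a

theorem exists6 (h : ∀ r ∈ R6, BN.ev x r.1 = BN.ev x r.2) (h0 : x 0 ≠ 1) :
    ∃ f : TG T6 →* G, Function.Injective f := by
  have : Fact (⟨64, m6, i6⟩ : Tab).OK := ok6
  refine ⟨(sound6 h).hom rfl, inj_of_rank (T := T6) _ (z := TG.e 1) ?_ (TG.es [2, 4, 8, 16, 32])
    (BD.of (by decide +kernel))⟩
  exact fun e => h0 ((el_pow (i := 0) (by decide)).symm.trans e)

theorem exists7 (h : ∀ r ∈ R6, BN.ev x r.1 = BN.ev x r.2)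
    (h' : ∀ r ∈ R7, BN.ev x r.1 = BN.ev x r.2) (h0 : x 0 ≠ 1) :
    ∃ f : TG T7 →* G, Function.Injective f := by
  have : Fact (⟨128, m7, i7⟩ : Tab).OK := ok7
  refine ⟨(sound7 h h').hom rfl, inj_of_rank (T := T7) _ (z := TG.e 1) ?_
    (TG.es [2, 4, 8, 16, 32, 64]) (BD.of (by decide +kernel))⟩
  exact fun e => h0 ((el_pow (i := 0) (by decide)).symm.trans e)

theorem sylow_equiv [Finite G] {T : Type} [Group T] {f : T →* G} (hf : Function.Injective f)
    {k m : ℕ} (hT : Nat.card T = 2 ^ k) (hG : Nat.card G = 2 ^ k * m) (hm : ¬ 2 ∣ m)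
    (P : Sylow 2 G) : Nonempty (T ≃* P) := by
  have a : Nat.card f.range = 2 ^ k := by
    rw [← hT, ← Nat.card_congr (MonoidHom.ofInjective hf).toEquiv]
  have b : f.range.index = m := by
    have := f.range.card_mul_index
    rw [a, hG] at this
    exact Nat.eq_of_mul_eq_mul_left (by positivity) this
  exact ⟨(MonoidHom.ofInjective hf).trans
    (Sylow.equiv ((IsPGroup.of_card a).toSylow (b ▸ hm)) P)⟩

theorem s8 : ∃ f : TG T7 →* Perm (Fin 8), Function.Injective f :=
  exists7 xs6 xs7 (by decide +kernel)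

def xa : ℕ → alternatingGroup (Fin 8) := tup
  [⟨swap 0 1 * swap 2 3 * swap 4 5 * swap 6 7, by simp⟩, ⟨swap 0 1 * swap 2 3, by simp⟩,
  ⟨swap 0 1 * swap 4 5, by simp⟩, ⟨swap 0 2 * swap 1 3 * swap 4 6 * swap 5 7, by simp⟩,
  ⟨swap 0 2 * swap 1 3, by simp⟩, ⟨swap 0 4 * swap 1 5 * swap 2 6 * swap 3 7, by simp⟩]

theorem a8 : ∃ f : TG T6 →* alternatingGroup (Fin 8), Function.Injective f :=
  exists6 (x := xa) (by decide +kernel) (by decide +kernel)

theorem k6 : ∃ f : TG T6 →* PS4.K, Function.Injective f :=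
  exists6 (x := tup (TG.es [9, 12, 24, 18, 62, 26])) (BD.of (by decide +kernel))
    (BD.of (p := BN.ev (tup (TG.es [9, 12, 24, 18, 62, 26])) [0] ≠ (1 : PS4.K))
      (by decide +kernel) ∘ fun e => by simpa using e)

abbrev I6 := (Fin 2 ⊕ Fin 2) ⊕ Fin 2

def ix : I6 → ℕ
  | .inl (.inl i) => i
  | .inl (.inr i) => 2 + i
  | .inr i => 4 + i

def mk (c : ℕ) : Matrix I6 I6 (ZMod 2) := fun i j => if c.testBit (6 * ix i + ix j) then 1 else 0

abbrev O6 := isometryGroup (ZMod 2) (quadFormMinus 2 (ZMod 2) 1 1)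

open Matrix in
def om (c : ℕ) (h : mk c * mk c = 1 := by decide +kernel)
    (h' : ∀ u, quadFormMinus 2 (ZMod 2) 1 1 (mk c *ᵥ u) = quadFormMinus 2 (ZMod 2) 1 1 u := by
      decide +kernel) : O6 := ⟨⟨mk c, mk c, h, h⟩, fun u _ => h' u⟩

def xo : ℕ → O6 := tup [om 34630287753, om 34697396389, om 34764507777, om 38925254805,
  om 38993412279, om 43220223617, om 35167158401]

theorem o6 : ∃ f : TG T7 →* O6, Function.Injective f :=
  exists7 (x := xo) (by decide +kernel) (by decide +kernel) (by decide +kernel)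

end Cfsg.Agent.Syl8
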